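import Mathlib
import Groth.Prelude.Def_EtRam
import Groth.Agent.Lib.Helper24.Tame.Tower

/-! # A ramified prime of a Dedekind extension obstructs unramifiedness -/

set_option autoImplicit false
set_option linter.style.haveILetI false

namespace Groth.Agent.Lib.Helper18.ASPS

open IsLocalRing IsDedekindDomain

universe u

/-- If some maximal ideal of the Dedekind domain `B` has ramification index at least `2` over the
discrete valuation ring `A`, then the fraction field of `B` is not unramified over `A`. -/
theorem not_unramified_of_ramified {A B E : Type u} [CommRing A] [IsDomain A]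
    [IsDiscreteValuationRing A] [CommRing B] [IsDedekindDomain B] [Algebra A B]
    [Module.IsTorsionFree A B] [Algebra.IsIntegral A B]
    [Field E] [Algebra B E] [IsFractionRing B E] [Algebra A E] [IsScalarTower A B E]
    (M : Ideal B) [hM : M.IsMaximal] (he : 2 ≤ M.ramificationIdx A) :
    ¬ EtRam.IsUnramifiedExt A (algebraMap A E) := by
  classical
  intro hunr
  have hp : M.under A = maximalIdeal A := by
    have : (M.under A).IsMaximal := Ideal.isMaximal_comap_of_isIntegral_of_isMaximal M
    exact IsLocalRing.eq_maximalIdeal this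
  have hm0 : maximalIdeal A ≠ ⊥ := IsDiscreteValuationRing.not_a_field A
  haveI : M.LiesOver (maximalIdeal A) := ⟨hp.symm⟩
  have hidx := Ideal.ramificationIdx'_eq_ramificationIdx (maximalIdeal A) M hm0
  have hle : (maximalIdeal A).map (algebraMap A B) ≤ M ^ 2 :=
    Ideal.le_pow_of_le_ramificationIdx' (by rw [hidx]; exact he)
  have hinj : Function.Injective (algebraMap A B) := FaithfulSMul.algebraMap_injective A B
  have hmap0 : (maximalIdeal A).map (algebraMap A B) ≠ ⊥ :=
    Ideal.map_ne_bot_of_ne_bot hm0
  have hM0 : M ≠ ⊥ := by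
    rintro rfl
    apply hmap0
    rw [eq_bot_iff]
    refine hle.trans ?_
    rw [Ideal.bot_pow (by norm_num : (2 : ℕ) ≠ 0)]
  let v : HeightOneSpectrum B := ⟨M, hM.isPrime, hM0⟩
  obtain ⟨V, hVdef⟩ : ∃ V : ValuationSubring E, V = (v.valuation E).valuationSubring := ⟨_, rfl⟩
  have hequiv : (v.valuation E).IsEquiv V.valuation := by
    rw [hVdef]; exact Valuation.isEquiv_valuation_valuationSubring _
  have hmemV : ∀ x : E, x ∈ V ↔ v.valuation E x ≤ 1 := by
    intro x; rw [hVdef]; exact Valuation.mem_valuationSubring_iff _ _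
  have hdom : EtRam.Dominates A (algebraMap A E) V := by
    refine ⟨fun a => ?_, fun a ha => ?_⟩
    · rw [hmemV, IsScalarTower.algebraMap_apply A B E]
      exact v.valuation_le_one _
    · rw [← hequiv.lt_one_iff_lt_one, IsScalarTower.algebraMap_apply A B E,
        v.valuation_lt_one_iff_mem]
      have : a ∈ M.under A := by rw [hp]; exact ha
      exact this
  letI algAV : Algebra A V := (RingHom.codRestrict (algebraMap A E) V hdom.1).toAlgebra
  haveI hloc : IsLocalHom (algebraMap A V) :=
    Groth.Agent.Lib.Helper24.TameTower.isLocalHom_of_dominates hdom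
  obtain ⟨hweak, -⟩ := hunr V hdom
  unfold EtRam.IsWeaklyUnramified at hweak
  -- a uniformizer at `v`
  obtain ⟨ϖ, hϖ⟩ := v.valuation_exists_uniformizer E
  have hexp1 : (WithZero.exp (-1 : ℤ) : WithZero (Multiplicative ℤ)) < 1 := by
    rw [← WithZero.exp_zero, WithZero.exp_lt_exp]; norm_num
  have hϖV : ϖ ∈ V := by
    rw [hmemV, hϖ]
    exact le_of_lt hexp1
  have hϖmax : (⟨ϖ, hϖV⟩ : V) ∈ maximalIdeal V := by
    rw [V.valuation_lt_one_iff]
    show V.valuation ϖ < 1
    rw [← hequiv.lt_one_iff_lt_one, hϖ]
    exact hexp1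
  rw [← hweak] at hϖmax
  -- every element of the extended ideal has valuation at most `exp (-2)`
  have hbound : ∀ x : V, x ∈ (maximalIdeal A).map (algebraMap A V) →
      v.valuation E (x : E) ≤ WithZero.exp (-2 : ℤ) := by
    intro x hx
    refine Submodule.span_induction
      (p := fun (x : V) _ => v.valuation E (x : E) ≤ WithZero.exp (-2 : ℤ))
      ?_ ?_ ?_ ?_ hx
    · rintro _ ⟨a, ha, rfl⟩
      show v.valuation E (algebraMap A E a) ≤ _
      rw [IsScalarTower.algebraMap_apply A B E]
      have h1 : algebraMap A B a ∈ M ^ 2 := hle (Ideal.mem_map_of_mem _ ha)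
      rw [v.valuation_of_algebraMap]
      exact_mod_cast (v.intValuation_le_pow_iff_mem (algebraMap A B a) 2).mpr h1
    · simp
    · intro x y _ _ hx hy
      show v.valuation E ((x : E) + (y : E)) ≤ _
      exact (Valuation.map_add _ _ _).trans (max_le hx hy)
    · intro c x _ hx
      show v.valuation E ((c : E) * (x : E)) ≤ _
      rw [map_mul]
      calc v.valuation E (c : E) * v.valuation E (x : E) ≤ 1 * WithZero.exp (-2 : ℤ) :=
            mul_le_mul' ((hmemV _).mp c.2) hx
        _ = _ := one_mul _
  have := hbound _ hϖmax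
  rw [hϖ] at this
  rw [WithZero.exp_le_exp] at this
  omega
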